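import Cfsg.Agent.H305.EB.RankThree

/-!
# TEAM EB: groups without outer automorphisms (helper305)

`evenB_of_inner` : `EvenB S` from the conclusion for `G = S` (for all isomorphic copies), all automorphisms being inner.
-/

set_option autoImplicit false
set_option linter.style.haveILetI false

namespace Cfsg.Agent.H305.EB

open Cfsg Cfsg.Agent.Characters Cfsg.Agent.Characters.Core Cfsg.Agent.H690.Spor.RankThree
open Cfsg.Agent.H610.EB Cfsg.Agent.H694 Cfsg.Agent.H684.EB

universe u v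

/-- The conclusion for `G = S`. -/
def EvenS (S : Type u) [Group S] : Prop :=
  ∀ k : ℕ, IsK S k → ∀ M : Ideal AlgInt, IsPModular 2 M → ∃ χ ∈ principalBlock M S,
    Even (charDegree (χ : S → ℂ)) ∧ (∀ g : S, (χ : S → ℂ) (g ^ k) = (χ : S → ℂ) g) ∧
      (χ : S → ℂ) ≠ fun _ => 1

theorem evenB_of_inner {S : Type u} [Group S] (hin : ∀ α : S ≃* S, ∃ s : S, ∀ x : S, α x = s * x * s⁻¹)
    (hex : ∀ (G : Type u) [Group G] [Fintype G], S ≃* G → EvenS G) : EvenB S := by
  intro G _ _ N hN _ f hC hidx k hk M hM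
  obtain ⟨e⟩ := f
  have htop : N = ⊤ := by
    rw [eq_top_iff]
    intro g _
    obtain ⟨s, hs⟩ := hin ((e.trans (MulAut.conjNormal g : MulAut N)).trans e.symm)
    have h1 : (e s : G)⁻¹ * g ∈ Subgroup.centralizer (N : Set G) := by
      rw [Subgroup.mem_centralizer_iff]
      intro n hn
      obtain ⟨x, hx⟩ := e.surjective ⟨n, hn⟩
      have h2 : (MulAut.conjNormal g : MulAut N) (e x) = e s * e x * (e s)⁻¹ := by
        have h3 := congrArg e (hs x)
        rw [map_mul, map_mul, map_inv] at h3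
        rw [← h3]
        exact (e.apply_symm_apply _).symm
      have h3 := congrArg Subtype.val h2
      rw [MulAut.conjNormal_apply] at h3
      have h4 : g * n * g⁻¹ = (e s : G) * n * (e s : G)⁻¹ := by
        rw [hx] at h3
        exact h3
      calc n * ((e s : G)⁻¹ * g) = (e s : G)⁻¹ * ((e s : G) * n * (e s : G)⁻¹) * g := by group
        _ = (e s : G)⁻¹ * (g * n * g⁻¹) * g := by rw [h4]
        _ = (e s : G)⁻¹ * g * n := by group
    rw [hC, Subgroup.mem_bot, inv_mul_eq_one] at h1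
    rw [← h1]
    exact (e s).2
  subst htop
  obtain ⟨χ, h1, h2, h3, h4⟩ := hex G (e.trans Subgroup.topEquiv) k hk M hM
  refine ⟨χ, h1, h2, h3, ?_⟩
  have h5 := Clifford.classInner_comp_mulEquiv (Subgroup.topEquiv : (⊤ : Subgroup G) ≃* G) (χ : G → ℂ) (1 : G → ℂ)
  have h6 : classInner (χ : G → ℂ) 1 = 0 := classInner_irr_ne χ.2 isIrr_one h4
  rw [h6] at h5
  rw [← h5]
  rfl

/-- Transport of a rank 3 action. -/
theorem R3.comp {S G : Type*} [Group S] [Group G] {X : Type*} [MulAction S X] {R : X → X → Prop} {k l : ℕ}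
    (h : R3 S X R k l) (e : S ≃* G) :
    (letI := MulAction.compHom X e.symm.toMonoidHom; R3 G X R k l) := by
  letI := MulAction.compHom X e.symm.toMonoidHom
  have hs : ∀ (s : S) (x : X), e s • x = s • x := fun s x => by
    show e.symm (e s) • x = s • x
    rw [MulEquiv.symm_apply_apply]
  refine ⟨⟨fun x y => ?_⟩, h.symm, h.irr, fun g x y hxy => h.inv (e.symm g) x y hxy, ?_, ?_, h.cardk, h.k0, h.l0,
    h.cardn⟩
  · have := h.trans
    obtain ⟨s, hs'⟩ := MulAction.exists_smul_eq S x y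
    exact ⟨e s, by rw [hs, hs']⟩
  · intro x y x' y' h1 h2
    obtain ⟨s, h3, h4⟩ := h.one x y x' y' h1 h2
    exact ⟨e s, by rw [hs, h3], by rw [hs, h4]⟩
  · intro x y x' y' h1 h2 h1' h2'
    obtain ⟨s, h3, h4⟩ := h.two x y x' y' h1 h2 h1' h2'
    exact ⟨e s, by rw [hs, h3], by rw [hs, h4]⟩

/-- **Rows with `Out = 1` from a rank 3 action.** -/
theorem evenB_of_R3 {S : Type u} [Group S] (hin : ∀ α : S ≃* S, ∃ s : S, ∀ x : S, α x = s * x * s⁻¹)
    {X : Type v} [Finite X] [MulAction S X] {R : X → X → Prop} {k l : ℕ} (h : R3 S X R k l) (hodd : Odd (k + l))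
    (hpar : ∀ a b c : ℕ, k * k = k + k * a + l * b → (c : ℤ) * c = ((a : ℤ) - b) ^ 2 + 4 * ((k : ℤ) - b) →
      Even a ∧ Even b) : EvenB S := by
  classical
  have := Fintype.ofFinite X
  refine evenB_of_inner hin fun G _ _ e κ hκ M hM => ?_
  letI := MulAction.compHom X e.symm.toMonoidHom
  have h' : R3 G X R k l := R3.comp h e
  exact exists_even h' hodd hpar hκ hM

end Cfsg.Agent.H305.EB
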