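import Cfsg.Agent.H690.Spor.RankThree
import Cfsg.Agent.H684.EB.Base
import Cfsg.Agent.H610.EB.DRed
import Cfsg.Agent.H694.EB.Nilp

/-!
# TEAM EB: groups with a rank 3 action of even degree, `λ` and `μ` even (helper305)

* `mem_of_R3` : criterion (E) for the structure `R3` (helper690);
* `exists_even` : the even degree constituent.
-/

set_option autoImplicit false
set_option linter.unusedSectionVars false
set_option linter.style.haveILetI false

namespace Cfsg.Agent.H305.EB

open Cfsg Cfsg.Agent.Characters Cfsg.Agent.Characters.Core Cfsg.Agent.H665.NoPQ Cfsg.Agent.H690.Spor.RankThree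
open Cfsg.Agent.H690.Spor.RankThree.R3 Cfsg.Agent.H610.EB Cfsg.Agent.H694 Cfsg.Agent.H694.EB
open Cfsg.Agent.H610
open scoped ComplexConjugate

universe u v

section frame

variable {G X : Type*} [Group G] [MulAction G X] {R : X → X → Prop} {k l : ℕ}
variable [Fintype X] [DecidableEq X] [DecidableRel R]

/-- **Frame's theorem, rank 3**, with the parameters (copy of `Frame3.frame_int`). -/
theorem frame_ab [Finite G] (h : R3 G X R k l) {a b : ℕ} (hab : ∀ x y, ∑ z, adj R x z * adj R z y =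
    (k - b : ℂ) * dia x y + (a - b : ℂ) * adj R x y + b) : ∃ (χ₁ χ₂ : IrrCharacter G) (f g D : ℕ),
    (χ₁ : G → ℂ) 1 = f ∧ (χ₂ : G → ℂ) 1 = g ∧
    (∀ x : G, (Nat.card (MulAction.fixedBy X x) : ℂ) = 1 + (χ₁ : G → ℂ) x + (χ₂ : G → ℂ) x) ∧
    f + g = k + l ∧ f * g * D = (1 + k + l) * k * l ∧
    (D : ℤ) = ((a : ℤ) - b) ^ 2 + 4 * ((k : ℤ) - b) ∧ (f ≠ g → ∃ c : ℤ, (D : ℤ) = c ^ 2) := by
  have := Fintype.ofFinite G
  have hp := h.params_eq hab
  have hn := h.cardn
  -- the discriminant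
  set β : ℤ := (a : ℤ) - b with hβ
  set γ : ℤ := (k : ℤ) - b with hγ
  set N : ℤ := (k : ℤ) + l with hN
  have hpZ : (k : ℤ) * k = k + k * a + l * b := by exact_mod_cast hp
  have hI : (β ^ 2 + 4 * γ) * N ^ 2 = (β * N + 2 * k) ^ 2 + 4 * ((1 + k + l) * k * l) := by
    rw [hβ, hγ, hN]
    linear_combination (4 * ((k : ℤ) + l)) * hpZ
  have hk0 : (0 : ℤ) < k := by exact_mod_cast h.k0
  have hl0 : (0 : ℤ) < l := by exact_mod_cast h.l0
  have hN0 : 0 < N := by omega
  have hpos : (0 : ℤ) < (1 + k + l) * k * l := by positivity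
  have hD0 : 0 < β ^ 2 + 4 * γ := by
    have h1 : 0 < (β ^ 2 + 4 * γ) * N ^ 2 := by rw [hI]; nlinarith [sq_nonneg (β * N + 2 * k)]
    by_contra hcon
    push Not at hcon
    nlinarith [sq_nonneg N]
  obtain ⟨D, hD⟩ : ∃ D : ℕ, (D : ℤ) = β ^ 2 + 4 * γ := ⟨(β ^ 2 + 4 * γ).toNat, Int.toNat_of_nonneg hD0.le⟩
  obtain ⟨d, hd⟩ : ∃ d : ℂ, d * d = (D : ℂ) := by
    obtain ⟨d, hd⟩ := IsAlgClosed.exists_pow_nat_eq (D : ℂ) (n := 2) (by norm_num)
    exact ⟨d, by rw [← hd]; ring⟩
  have hd0 : d ≠ 0 := by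
    rintro rfl
    have h1 : (D : ℂ) = 0 := by rw [← hd]; ring
    have h2 : D = 0 := by exact_mod_cast h1
    rw [h2] at hD
    omega
  set r : ℂ := (β + d) / 2 with hr
  set s : ℂ := (β - d) / 2 with hs
  have hrs : r - s = d := by rw [hr, hs]; ring
  have hrs' : r ≠ s := sub_ne_zero.1 (by rw [hrs]; exact hd0)
  have hDC : (D : ℂ) = (β : ℂ) ^ 2 + 4 * γ := by exact_mod_cast congrArg (Int.cast : ℤ → ℂ) hD
  have h1 : r + s = a - b := by
    rw [hr, hs, hβ]
    push_cast
    ring
  have h2 : r * s = b - k := by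
    have h3 : r * s = ((β : ℂ) ^ 2 - d * d) / 4 := by rw [hr, hs]; ring
    rw [h3, hd, hDC, hγ]
    push_cast
    ring
  -- the characters
  have hchar : ∀ u v : ℂ, u ≠ v → u + v = a - b → u * v = b - k →
      IsCharacter G (fun g : G => ∑ x : X, ker R k (Nat.card X) u v x (g • x)) := by
    intro u v huv h3 h4
    exact Cfsg.Agent.H651.isCharacter_sum_perm (MulAction.toPermHom G X) (ker R k (Nat.card X) u v)
      (h.ker_mul hab huv h3 h4) (fun g x y => h.ker_smul _ u v g x y)
  have hc1 := hchar r s hrs' h1 h2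
  have hc2 := hchar s r hrs'.symm (by rw [add_comm]; exact h1) (by rw [mul_comm]; exact h2)
  set θ₁ : G → ℂ := fun g : G => ∑ x : X, ker R k (Nat.card X) r s x (g • x) with hθ₁
  set θ₂ : G → ℂ := fun g : G => ∑ x : X, ker R k (Nat.card X) s r x (g • x) with hθ₂
  have hnC : (Nat.card X : ℂ) ≠ 0 := by
    have : Nat.card X ≠ 0 := by omega
    exact_mod_cast this
  have hval : ∀ u v : ℂ, ∀ g : G, ∑ x : X, ker R k (Nat.card X) u v x (g • x) =
      (u - v)⁻¹ * (∑ x : X, adj R x (g • x) - v * (Nat.card (MulAction.fixedBy X g) : ℂ) - (k - v)) := by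
    intro u v g
    unfold ker
    rw [← Finset.mul_sum, Finset.sum_sub_distrib, Finset.sum_sub_distrib, ← Finset.mul_sum, sum_dia_smul,
      Finset.sum_const, Finset.card_univ, ← Nat.card_eq_fintype_card, nsmul_eq_mul]
    congr 2
    field_simp
  have hsum : (fun g : G => (Nat.card (MulAction.fixedBy X g) : ℂ) - 1) = θ₁ + θ₂ := by
    funext g
    show _ = θ₁ g + θ₂ g
    rw [hθ₁, hθ₂]
    simp only [hval]
    have h3 : (s - r)⁻¹ = -(r - s)⁻¹ := by rw [← neg_sub, inv_neg]
    rw [h3]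
    have h4 : (r - s)⁻¹ * (r - s) = 1 := inv_mul_cancel₀ (by rw [hrs]; exact hd0)
    linear_combination (-(Nat.card (MulAction.fixedBy X g) : ℂ) + 1) * h4
  have hnorm := h.norm_two (G := G)
  rw [hsum, classInner_add_left, classInner_add_right, classInner_add_right] at hnorm
  -- degrees
  have hone : ∑ x : X, adj R x ((1 : G) • x) = 0 := by
    refine Finset.sum_eq_zero fun x _ => ?_
    unfold adj
    rw [one_smul, if_neg (h.irr x)]
  have hfix1 : Nat.card (MulAction.fixedBy X (1 : G)) = Nat.card X := by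
    rw [MulAction.fixedBy_one_eq_univ]
    exact Nat.card_univ
  have hn' : (Nat.card X : ℂ) = 1 + k + l := by exact_mod_cast hn
  have hdeg1 : θ₁ 1 * d = -(s * (k + l) + k) := by
    rw [hθ₁]
    simp only [hval]
    rw [hone, hfix1, hn', hrs]
    have h4 : d⁻¹ * d = 1 := inv_mul_cancel₀ hd0
    linear_combination (0 - s * (1 + k + l) - (k - s)) * h4
  have hdeg2 : θ₂ 1 * d = r * (k + l) + k := by
    rw [hθ₂]
    simp only [hval]
    have h3 : (s - r)⁻¹ = -d⁻¹ := by rw [← neg_sub, inv_neg, hrs]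
    rw [hone, hfix1, hn', h3]
    have h4 : d⁻¹ * d = 1 := inv_mul_cancel₀ hd0
    linear_combination (0 - (0 - r * (1 + k + l) - (k - r))) * h4
  obtain ⟨f, hf⟩ := isCharacter_apply_one hc1
  obtain ⟨g, hg⟩ := isCharacter_apply_one hc2
  have hpC : (k : ℂ) * k = k + k * a + l * b := by exact_mod_cast hp
  have hprod : (f : ℂ) * g * D = (1 + k + l) * k * l := by
    rw [← hd, ← hf, ← hg]
    have h5 : θ₁ 1 * θ₂ 1 * (d * d) = (θ₁ 1 * d) * (θ₂ 1 * d) := by ring
    rw [h5, hdeg1, hdeg2]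
    linear_combination (-(k + l : ℂ) ^ 2) * h2 - (k : ℂ) * (k + l) * h1 + (k + l : ℂ) * hpC
  have hprodN : f * g * D = (1 + k + l) * k * l := by exact_mod_cast hprod
  have hfg : f + g = k + l := by
    have h3 : ((f + g : ℕ) : ℂ) * d = ((k + l : ℕ) : ℂ) * d := by
      push_cast
      rw [← hf, ← hg]
      linear_combination hdeg1 + hdeg2 + (k + l : ℂ) * hrs
    have h4 := mul_right_cancel₀ hd0 h3
    exact_mod_cast h4
  have hprod0 : 0 < (1 + k + l) * k * l := by
    have := h.k0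
    have := h.l0
    positivity
  have hf0 : f ≠ 0 := by
    rintro rfl
    rw [zero_mul, zero_mul] at hprodN
    omega
  have hg0 : g ≠ 0 := by
    rintro rfl
    rw [mul_zero, zero_mul] at hprodN
    omega
  -- norms
  obtain ⟨m11, hm11⟩ := classInner_isNat hc1 hc1
  obtain ⟨m12, hm12⟩ := classInner_isNat hc1 hc2
  obtain ⟨m21, hm21⟩ := classInner_isNat hc2 hc1
  obtain ⟨m22, hm22⟩ := classInner_isNat hc2 hc2
  rw [hm11, hm12, hm21, hm22] at hnorm
  have hnormN : m11 + m12 + (m21 + m22) = 2 := by exact_mod_cast hnorm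
  have h11 : m11 ≠ 0 := by
    rintro rfl
    have h3 := classInner_self_eq_zero (φ := θ₁) (by rw [hm11]; simp)
    rw [h3] at hf
    apply hf0
    have : (f : ℂ) = 0 := by rw [← hf]; rfl
    exact_mod_cast this
  have h22 : m22 ≠ 0 := by
    rintro rfl
    have h3 := classInner_self_eq_zero (φ := θ₂) (by rw [hm22]; simp)
    rw [h3] at hg
    apply hg0
    have : (g : ℂ) = 0 := by rw [← hg]; rfl
    exact_mod_cast this
  have hm1 : m11 = 1 := by omega
  have hm2 : m22 = 1 := by omega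
  have hi1 : IsIrrCharacter G θ₁ := isIrr_of_classInner_self hc1 (by rw [hm11, hm1]; simp)
  have hi2 : IsIrrCharacter G θ₂ := isIrr_of_classInner_self hc2 (by rw [hm22, hm2]; simp)
  refine ⟨⟨θ₁, hi1⟩, ⟨θ₂, hi2⟩, f, g, D, hf, hg, fun x => ?_, hfg, hprodN, hD, fun hne => ?_⟩
  · have h3 := congrFun hsum x
    have h4 : (Nat.card (MulAction.fixedBy X x) : ℂ) - 1 = θ₁ x + θ₂ x := h3
    show _ = 1 + θ₁ x + θ₂ x
    linear_combination h4
  · have h3 : ((f : ℂ) - g) * d = -(β * (k + l) + 2 * k) := by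
      rw [← hf, ← hg]
      have h4 : (β : ℂ) = r + s := by rw [hr, hs]; ring
      rw [h4]
      linear_combination hdeg1 - hdeg2
    have h5 : ((f : ℂ) - g) ^ 2 * D = (β * (k + l) + 2 * k) ^ 2 := by
      rw [← hd]
      have : ((f : ℂ) - g) ^ 2 * (d * d) = (((f : ℂ) - g) * d) ^ 2 := by ring
      rw [this, h3]
      ring
    have h6 : ((f : ℤ) - g) ^ 2 * D = (β * (k + l) + 2 * k) ^ 2 := by exact_mod_cast h5
    have h7 : ((f : ℤ) - g) ≠ 0 := by
      intro h8
      apply hne
      omega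
    have h8 : ((f : ℤ) - g) ∣ (β * (k + l) + 2 * k) := by
      have h9 : ((f : ℤ) - g) ^ 2 ∣ (β * (k + l) + 2 * k) ^ 2 := ⟨_, h6.symm⟩
      exact (Int.pow_dvd_pow_iff (by norm_num)).1 h9
    obtain ⟨c, hc⟩ := h8
    rw [hc, mul_pow] at h6
    have h10 : (D : ℤ) = c ^ 2 := mul_left_cancel₀ (pow_ne_zero 2 h7) h6
    exact ⟨c, h10⟩


end frame

section

variable {G : Type u} [Group G] [Fintype G] {X : Type v} [MulAction G X] {R : X → X → Prop} {k l : ℕ}
variable [Fintype X] [DecidableEq X] [DecidableRel R]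

/-- The adjacency matrix modulo 2. -/
def A2 (R : X → X → Prop) [DecidableRel R] : Matrix X X (ZMod 2) := Matrix.of fun x y => if R x y then 1 else 0

/-- The all one matrix. -/
def J2 (X : Type*) : Matrix X X (ZMod 2) := Matrix.of fun _ _ => 1

theorem sum_A2 (h : R3 G X R k l) (x : X) : ∑ y, A2 R x y = k := by
  unfold A2
  simp only [Matrix.of_apply]
  rw [Finset.sum_boole, ← h.cardk x, Nat.card_eq_fintype_card, Fintype.card_subtype]

theorem A2_symm (h : R3 G X R k l) (x y : X) : A2 R x y = A2 R y x := by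
  unfold A2
  simp only [Matrix.of_apply]
  by_cases h1 : R x y
  · rw [if_pos h1, if_pos (h.symm _ _ h1)]
  · rw [if_neg h1, if_neg fun h2 => h1 (h.symm _ _ h2)]

/-- The counting sums modulo 2 from the complex ones. -/
theorem A2_sq {a b : ℕ} (ha : Even a) (hb : Even b)
    (hab : ∀ x y, ∑ z, adj R x z * adj R z y = (k - b : ℂ) * dia x y + (a - b : ℂ) * adj R x y + b) :
    A2 R * A2 R = (k : ZMod 2) • 1 := by
  have hab' : ∀ x y : X, ((Finset.univ.filter fun z => R x z ∧ R z y).card : ℤ) =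
      (k - b) * (if x = y then 1 else 0) + (a - b) * (if R x y then 1 else 0) + b := by
    intro x y
    have h1 := hab x y
    have h2 : ∑ z, adj R x z * adj R z y = ((Finset.univ.filter fun z => R x z ∧ R z y).card : ℂ) := by
      rw [Finset.card_filter]
      push_cast
      refine Finset.sum_congr rfl fun z _ => ?_
      unfold adj
      by_cases h1 : R x z <;> by_cases h2 : R z y <;> simp [h1, h2]
    rw [h2] at h1
    unfold dia adj at h1
    have h3 : (((Finset.univ.filter fun z => R x z ∧ R z y).card : ℤ) : ℂ) =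
      (((k - b) * (if x = y then 1 else 0) + (a - b) * (if R x y then 1 else 0) + b : ℤ) : ℂ) := by
      push_cast
      rw [h1]
    exact_mod_cast h3
  ext x y
  rw [Matrix.mul_apply, Matrix.smul_apply, Matrix.one_apply]
  have h2 : ∑ z, A2 R x z * A2 R z y = ((Finset.univ.filter fun z => R x z ∧ R z y).card : ZMod 2) := by
    rw [Finset.card_filter]
    push_cast
    refine Finset.sum_congr rfl fun z _ => ?_
    unfold A2
    by_cases h1 : R x z <;> by_cases h2 : R z y <;> simp [h1, h2]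
  rw [h2]
  have h3 := congrArg (Int.cast : ℤ → ZMod 2) (hab' x y)
  have ha2 : (a : ZMod 2) = 0 := (ZMod.natCast_eq_zero_iff_even).2 ha
  have hb2 : (b : ZMod 2) = 0 := (ZMod.natCast_eq_zero_iff_even).2 hb
  push_cast at h3
  rw [h3, ha2, hb2]
  simp

/-- **(E)** -/
theorem mem_of_R3 (h : R3 G X R k l) {a b : ℕ} (ha : Even a) (hb : Even b) (hn : Odd (k + l))
    (hab : ∀ x y, ∑ z, adj R x z * adj R z y = (k - b : ℂ) * dia x y + (a - b : ℂ) * adj R x y + b)
    {M : Ideal AlgInt} (hM : IsPModular 2 M) (χ : IrrCharacter G)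
    (hχ : classInner (permC G X) (χ : G → ℂ) ≠ 0) : χ ∈ principalBlock M G := by
  classical
  refine mem_principalBlock (X := X) hM χ ?_ ?_
  · intro h0
    apply hχ
    rw [classInner_def]
    have h1 : ∀ g : G, permC G X g * conj ((χ : G → ℂ) g) =
        (Nat.card {x : X // g • x = x} : ℂ) * (χ : G → ℂ) g⁻¹ := by
      intro g
      rw [isCharacter_apply_inv (isIrr_isCharacter χ.2)]
      rfl
    rw [Finset.sum_congr rfl fun g _ => h1 g, h0, mul_zero]
  · intro g _
    refine ⟨2, ?_⟩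
    -- representatives
    have hX0 : Nat.card X = 1 + k + l := h.cardn
    have hne : Nonempty X := by
      rw [← Finite.card_pos_iff]
      omega
    obtain ⟨x0⟩ := hne
    have := h.trans
    have hcn : ∀ (s : G) (x y : X), cn g (s • x) (s • y) = cn g x y := by
      intro s x y
      refine Nat.card_congr ⟨fun t => ⟨s⁻¹ * t.1 * s, ?_, ?_⟩, fun t => ⟨s * t.1 * s⁻¹, ?_, ?_⟩, fun t => ?_, fun t => ?_⟩
      · obtain ⟨c, hc⟩ := isConj_iff.1 t.2.1
        exact isConj_iff.2 ⟨s⁻¹ * c, by rw [← hc]; group⟩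
      · rw [mul_smul, mul_smul, t.2.2, inv_smul_smul]
      · obtain ⟨c, hc⟩ := isConj_iff.1 t.2.1
        exact isConj_iff.2 ⟨s * c, by rw [← hc]; group⟩
      · rw [mul_smul, mul_smul, inv_smul_smul, t.2.2]
      · apply Subtype.ext
        show s * (s⁻¹ * t.1 * s) * s⁻¹ = t.1
        group
      · apply Subtype.ext
        show s⁻¹ * (s * t.1 * s⁻¹) * s = t.1
        group
    -- the coefficients
    obtain ⟨c0, c1, c2, hc⟩ : ∃ c0 c1 c2 : ZMod 2, ∀ x y : X, (cn g x y : ZMod 2) =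
        c0 * (if x = y then 1 else 0) + c1 * (if R x y then 1 else 0) + c2 := by
      obtain ⟨y1, hy1⟩ : ∃ y, R x0 y := by
        have h1 := h.cardk x0
        have h2 : Nonempty {y // R x0 y} := by
          rw [← Finite.card_pos_iff, h1]
          exact h.k0
        obtain ⟨⟨y, hy⟩⟩ := h2
        exact ⟨y, hy⟩
      by_cases h2 : ∃ y, x0 ≠ y ∧ ¬ R x0 y
      · obtain ⟨y2, hy2, hy2'⟩ := h2
        refine ⟨(cn g x0 x0 : ZMod 2) - cn g x0 y2, (cn g x0 y1 : ZMod 2) - cn g x0 y2, cn g x0 y2, fun x y => ?_⟩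
        by_cases hxy : x = y
        · subst hxy
          obtain ⟨s, hs⟩ := MulAction.exists_smul_eq G x0 x
          rw [if_pos rfl, if_neg (h.irr x), ← hs, hcn]
          ring
        · by_cases hR : R x y
          · obtain ⟨s, hs1, hs2⟩ := h.one x0 y1 x y hy1 hR
            rw [if_neg hxy, if_pos hR, ← hs1, ← hs2, hcn]
            ring
          · obtain ⟨s, hs1, hs2⟩ := h.two x0 y2 x y hy2 hy2' hxy hR
            rw [if_neg hxy, if_neg hR, ← hs1, ← hs2, hcn]
            ring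
      · exfalso
        push Not at h2
        have h1 : Nat.card X ≤ 1 + k := by
          rw [Nat.card_eq_fintype_card, ← Finset.card_univ]
          have h3 : (Finset.univ : Finset X) ⊆ {x0} ∪ Finset.univ.filter (fun y => R x0 y) := by
            intro y _
            rw [Finset.mem_union, Finset.mem_singleton, Finset.mem_filter]
            by_cases hxy : x0 = y
            · exact Or.inl hxy.symm
            · exact Or.inr ⟨Finset.mem_univ _, h2 y hxy⟩
          refine (Finset.card_le_card h3).trans ((Finset.card_union_le _ _).trans ?_)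
          rw [Finset.card_singleton, ← h.cardk x0, Nat.card_eq_fintype_card, Fintype.card_subtype]
        have := h.l0
        omega
    -- the row sums
    have hn2 : ((1 + k + l : ℕ) : ZMod 2) = 0 := by
      rw [ZMod.natCast_eq_zero_iff_even, add_assoc]
      exact hn.one_add
    have hrow : ((Subgroup.centralizer ({g} : Set G)).index : ZMod 2) = c0 + c1 * k := by
      have h1 : ∑ y : X, cn g y x0 = (Subgroup.centralizer ({g} : Set G)).index := by
        unfold cn
        rw [Blocks.ClassScalar.index_centralizer, ← Nat.card_sigma]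
        exact Nat.card_congr
          { toFun := fun t => ⟨t.2.1, t.2.2.1⟩
            invFun := fun t => ⟨t.1 • x0, t.1, t.2, rfl⟩
            left_inv := by
              rintro ⟨y, t, ht, rfl⟩
              rfl
            right_inv := fun t => rfl }
      rw [← h1]
      push_cast
      rw [Finset.sum_congr rfl fun y _ => hc y x0, Finset.sum_add_distrib, Finset.sum_add_distrib, ← Finset.mul_sum,
        ← Finset.mul_sum, Finset.sum_const, Finset.card_univ, ← Nat.card_eq_fintype_card, hX0, nsmul_eq_mul, hn2,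
        zero_mul, add_zero]
      have h2 : ∑ y : X, (if y = x0 then (1 : ZMod 2) else 0) = 1 := by simp
      have h3 : ∑ y : X, (if R y x0 then (1 : ZMod 2) else 0) = k := by
        rw [← sum_A2 h x0]
        refine Finset.sum_congr rfl fun y _ => ?_
        rw [A2_symm h]
        rfl
      rw [h2, h3, mul_one]
    have hK : (Matrix.of fun x y : X => (cn g x y : ZMod 2)) -
        ((Subgroup.centralizer ({g} : Set G)).index : ZMod 2) • 1 =
        c1 • (A2 R - (k : ZMod 2) • 1) + c2 • J2 X := by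
      ext x y
      rw [hrow]
      simp only [Matrix.sub_apply, Matrix.add_apply, Matrix.smul_apply, Matrix.of_apply, Matrix.one_apply, hc, A2, J2,
        smul_eq_mul]
      ring
    have hAA := A2_sq ha hb hab
    have hJJ : J2 X * J2 X = (0 : Matrix X X (ZMod 2)) := by
      ext x y
      rw [Matrix.mul_apply]
      simp only [J2, Matrix.of_apply, mul_one, Finset.sum_const, Finset.card_univ, Matrix.zero_apply]
      rw [← Nat.card_eq_fintype_card, hX0, nsmul_eq_mul, hn2, zero_mul]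
    have hAJ : A2 R * J2 X = (k : ZMod 2) • J2 X := by
      ext x y
      rw [Matrix.mul_apply, Matrix.smul_apply]
      simp only [J2, Matrix.of_apply, mul_one, smul_eq_mul]
      exact sum_A2 h x
    have hJA : J2 X * A2 R = (k : ZMod 2) • J2 X := by
      ext x y
      rw [Matrix.mul_apply, Matrix.smul_apply]
      simp only [J2, Matrix.of_apply, one_mul, mul_one, smul_eq_mul]
      rw [← sum_A2 h y]
      exact Finset.sum_congr rfl fun z _ => A2_symm h z y
    rw [hK, sq, add_mul, mul_add, mul_add]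
    simp only [Matrix.smul_mul, Matrix.mul_smul, sub_mul, mul_sub, hAA, hJJ, hAJ, hJA, one_mul, mul_one, smul_smul,
      smul_zero, sub_self, add_zero]
    ext x y
    simp only [Matrix.add_apply, Matrix.sub_apply, Matrix.smul_apply, smul_eq_mul, Matrix.one_apply, Matrix.zero_apply]
    have key : ∀ c1 c2 κ δ α ι : ZMod 2, c1 * (c1 * (κ * δ - κ * α) - κ * c1 * (α - κ * δ)) +
        c1 * (c2 * κ * ι - κ * c2 * ι) = 0 := by decide
    exact key _ _ _ _ _ _

/-- The three constituents. -/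
theorem eq_of_ne_zero {χ₁ χ₂ : IrrCharacter G}
    (hπ : ∀ x : G, (Nat.card (MulAction.fixedBy X x) : ℂ) = 1 + (χ₁ : G → ℂ) x + (χ₂ : G → ℂ) x)
    (χ : IrrCharacter G) (h : classInner (permC G X) (χ : G → ℂ) ≠ 0) :
    (χ : G → ℂ) = 1 ∨ χ = χ₁ ∨ χ = χ₂ := by
  by_contra hcon
  push Not at hcon
  obtain ⟨h0, h1, h2⟩ := hcon
  apply h
  have h3 : permC G X = (1 : G → ℂ) + (χ₁ : G → ℂ) + (χ₂ : G → ℂ) := by
    funext x
    exact hπ x
  rw [h3, classInner_add_left, classInner_add_left, classInner_irr_ne isIrr_one χ.2 (fun h => h0 h.symm),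
    classInner_irr_ne χ₁.2 χ.2 (fun h => h1 (Subtype.ext h.symm)),
    classInner_irr_ne χ₂.2 χ.2 (fun h => h2 (Subtype.ext h.symm))]
  norm_num

theorem charDegree_one' : charDegree (1 : G → ℂ) = 1 := by
  unfold charDegree
  simp

theorem exists_even_aux {χ₁ χ₂ : IrrCharacter G}
    (hπ : ∀ x : G, (Nat.card (MulAction.fixedBy X x) : ℂ) = 1 + (χ₁ : G → ℂ) x + (χ₂ : G → ℂ) x)
    (h1 : Even (charDegree (χ₁ : G → ℂ))) (h2 : ¬ Even (charDegree (χ₂ : G → ℂ))) {κ : ℕ} (hκ : IsK G κ) :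
    classInner (permC G X) (χ₁ : G → ℂ) ≠ 0 ∧ (∀ g, (χ₁ : G → ℂ) (g ^ κ) = (χ₁ : G → ℂ) g) ∧
      (χ₁ : G → ℂ) ≠ 1 := by
  have hne : (χ₁ : G → ℂ) ≠ 1 := by
    intro h
    rw [h, charDegree_one'] at h1
    exact absurd h1 (by decide)
  have h12 : (χ₁ : G → ℂ) ≠ χ₂ := by
    intro h
    rw [h] at h1
    exact h2 h1
  have h3 : permC G X = (1 : G → ℂ) + (χ₁ : G → ℂ) + (χ₂ : G → ℂ) := by
    funext x
    exact hπ x
  have h4 : classInner (permC G X) (χ₁ : G → ℂ) ≠ 0 := by
    rw [h3, classInner_add_left, classInner_add_left, classInner_irr_ne isIrr_one χ₁.2 hne.symm,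
      classInner_irr_self χ₁.2, classInner_irr_ne χ₂.2 χ₁.2 h12.symm]
    norm_num
  refine ⟨h4, ?_, hne⟩
  have h5 : classInner (permC G X) (Twist.pw hκ.coprime χ₁ : G → ℂ) ≠ 0 := by
    rw [classInner_pw hκ (π := permC G X) (fun g => by
      show (Nat.card (MulAction.fixedBy X (g ^ κ)) : ℂ) = Nat.card (MulAction.fixedBy X g)
      rw [fixedBy_pow hκ])]
    exact h4
  have h6 : charDegree (Twist.pw hκ.coprime χ₁ : G → ℂ) = charDegree (χ₁ : G → ℂ) := charDegree_pw hκ χ₁
  rcases eq_of_ne_zero hπ _ h5 with h7 | h7 | h7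
  · rw [← h6, h7, charDegree_one'] at h1
    exact absurd h1 (by decide)
  · intro g
    rw [← Twist.pw_apply hκ.coprime χ₁ g, h7]
  · rw [← h6, h7] at h1
    exact absurd h1 h2

/-- **The even degree constituent.** -/
theorem exists_even (h : R3 G X R k l) (hodd : Odd (k + l))
    (hpar : ∀ a b c : ℕ, k * k = k + k * a + l * b → (c : ℤ) * c = ((a : ℤ) - b) ^ 2 + 4 * ((k : ℤ) - b) →
      Even a ∧ Even b) {κ : ℕ} (hκ : IsK G κ) {M : Ideal AlgInt} (hM : IsPModular 2 M) :
    ∃ χ ∈ principalBlock M G, Even (charDegree (χ : G → ℂ)) ∧ (∀ g, (χ : G → ℂ) (g ^ κ) = (χ : G → ℂ) g) ∧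
      (χ : G → ℂ) ≠ fun _ => 1 := by
  obtain ⟨a, b, hab⟩ := h.exists_params
  have hp := h.params_eq hab
  obtain ⟨χ₁, χ₂, f, g, D, hf, hg, hval, hfg, -, hD, hsq⟩ := frame_ab h hab
  have hne : f ≠ g := by
    rintro rfl
    rw [← hfg] at hodd
    exact (Nat.not_odd_iff_even.2 ⟨f, rfl⟩) hodd
  obtain ⟨c, hc⟩ := hsq hne
  obtain ⟨ha, hb⟩ := hpar a b c.natAbs hp (by
    rw [← hD, hc, sq]
    exact Int.natAbs_mul_self)
  have hd1 : charDegree (χ₁ : G → ℂ) = f := Blocks.Basic.charDegree_of_eq hf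
  have hd2 : charDegree (χ₂ : G → ℂ) = g := Blocks.Basic.charDegree_of_eq hg
  rw [← hfg] at hodd
  rcases Nat.even_or_odd f with he | ho
  · have hg' : ¬ Even g := by
      intro h'
      exact (Nat.not_odd_iff_even.2 (he.add h')) hodd
    obtain ⟨h4, h5, h6⟩ := exists_even_aux hval (by rwa [hd1]) (by rwa [hd2]) hκ
    exact ⟨χ₁, mem_of_R3 h ha hb (by rwa [← hfg]) hab hM χ₁ h4, by rwa [hd1], h5, h6⟩
  · have hg' : Even g := by
      by_contra h'
      rw [Nat.not_even_iff_odd] at h'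
      exact (Nat.not_odd_iff_even.2 (ho.add_odd h')) hodd
    obtain ⟨h4, h5, h6⟩ := exists_even_aux (χ₁ := χ₂) (χ₂ := χ₁) (fun x => by rw [hval]; ring) (by rwa [hd2])
      (by rw [hd1, Nat.not_even_iff_odd]; exact ho) hκ
    exact ⟨χ₂, mem_of_R3 h ha hb (by rwa [← hfg]) hab hM χ₂ h4, by rwa [hd2], h5, h6⟩

end

end Cfsg.Agent.H305.EB
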