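import Cfsg.Agent.H305.EB.Inner
import Cfsg.Agent.H690.Spor.Ru
import Cfsg.Agent.H843.IMC.Co2B
import Cfsg.Agent.KFacts.CoTwo.Main

/-!
# TEAM EB, rows `Ru` and `Co2` (helper305): rank 3 on 4060 and 2300 points
-/

set_option autoImplicit false
set_option linter.style.haveILetI false

namespace Cfsg.Agent.H305.EB

open Cfsg Cfsg.Agent.H690.Spor.RankThree Cfsg.Agent.H684.EB

universe u

theorem par_ru : ∀ a b c : ℕ, 1755 * 1755 = 1755 + 1755 * a + 2304 * b →
    (c : ℤ) * c = ((a : ℤ) - b) ^ 2 + 4 * (((1755 : ℕ) : ℤ) - b) → Even a ∧ Even b := by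
  intro a b c h1 h2
  obtain ⟨s, rfl⟩ : ∃ s, b = 195 * s := ⟨b / 195, by omega⟩
  obtain rfl : a = 1754 - 256 * s := by omega
  have hs : s ≤ 6 := by omega
  refine ⟨by rw [Nat.even_iff]; omega, ?_⟩
  have key : ∀ (m : ℕ) (n : ℤ), (m : ℤ) * m < n → n < ((m : ℤ) + 1) * (m + 1) → (c : ℤ) * c = n → False := by
    intro m n h3 h4 h5
    rcases Nat.lt_or_ge m c with h6 | h6
    · have h7 : (m : ℤ) + 1 ≤ c := by exact_mod_cast h6
      nlinarith
    · have h7 : (c : ℤ) ≤ m := by exact_mod_cast h6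
      have h8 : (0 : ℤ) ≤ c := Int.natCast_nonneg c
      nlinarith
  interval_cases s
  · decide
  · exfalso
    exact key 1305 _ (by norm_num) (by norm_num) h2
  · decide
  · exfalso
    exact key 406 _ (by norm_num) (by norm_num) h2
  · decide
  · exfalso
    exact key 504 _ (by norm_num) (by norm_num) h2
  · decide

theorem par_co2 : ∀ a b c : ℕ, 891 * 891 = 891 + 891 * a + 1408 * b →
    (c : ℤ) * c = ((a : ℤ) - b) ^ 2 + 4 * (((891 : ℕ) : ℤ) - b) → Even a ∧ Even b := by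
  intro a b c h1 h2
  obtain ⟨s, rfl⟩ : ∃ s, b = 81 * s := ⟨b / 81, by omega⟩
  obtain rfl : a = 890 - 128 * s := by omega
  have hs : s ≤ 6 := by omega
  refine ⟨by rw [Nat.even_iff]; omega, ?_⟩
  have key : ∀ (m : ℕ) (n : ℤ), (m : ℤ) * m < n → n < ((m : ℤ) + 1) * (m + 1) → (c : ℤ) * c = n → False := by
    intro m n h3 h4 h5
    rcases Nat.lt_or_ge m c with h6 | h6
    · have h7 : (m : ℤ) + 1 ≤ c := by exact_mod_cast h6
      nlinarith
    · have h7 : (c : ℤ) ≤ m := by exact_mod_cast h6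
      have h8 : (0 : ℤ) ≤ c := Int.natCast_nonneg c
      nlinarith
  interval_cases s
  · decide
  · exfalso
    exact key 683 _ (by norm_num) (by norm_num) h2
  · decide
  · exfalso
    exact key 267 _ (by norm_num) (by norm_num) h2
  · decide
  · exfalso
    exact key 161 _ (by norm_num) (by norm_num) h2
  · decide

/-- All automorphisms of `Ru` are inner. -/
theorem inner_ru {S : Type*} [Group S] (h : Spor.IsoRu S) (α : S ≃* S) : ∃ s : S, ∀ x : S, α x = s * x * s⁻¹ := by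
  obtain ⟨e⟩ := h
  let f : S ≃* SporadicB.RuOrder.H := e.trans RuLat.Main.equiv
  obtain ⟨g, hg⟩ := OddHalf.Table.OutRu.inner ((f.symm.trans α).trans f)
  refine ⟨f.symm g, fun x => ?_⟩
  apply f.injective
  have h1 := DFunLike.congr_fun hg (f x)
  have h2 : ((f.symm.trans α).trans f) (f x) = f (α x) := by
    show f (α (f.symm (f x))) = _
    rw [MulEquiv.symm_apply_apply]
  rw [← h2, h1, map_mul, map_mul, map_inv, MulEquiv.apply_symm_apply]
  rfl

/-- **Row `Ru`.** -/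
theorem evenB_ru {S : Type u} [Group S] (h : Spor.IsoRu S) : EvenB S := by
  have hin := inner_ru h
  obtain ⟨e⟩ := h
  let f : S ≃* SporadicB.RuOrder.H := e.trans RuLat.Main.equiv
  obtain ⟨R, hR⟩ := H690.Spor.Ru.r3
  letI := MulAction.compHom (Fin 4060) f.symm.symm.toMonoidHom
  have h' : R3 S (Fin 4060) R 1755 2304 := R3.comp hR f.symm
  exact evenB_of_R3 hin h' (by decide) par_ru

theorem evenJ_ru {S : Type u} [Group S] (h : Spor.IsoRu S) : EvenJ S :=
  evenJ_of_inner (fun α => ⟨0, by simpa using inner_ru h α⟩) (evenB_ru h)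

/-- All automorphisms of `Co2` are inner. -/
theorem inner_co2 {S : Type*} [Group S] (h : Spor.IsoCo2 S) (α : S ≃* S) : ∃ s : S, ∀ x : S, α x = s * x * s⁻¹ := by
  obtain ⟨e⟩ := h
  obtain ⟨g, hg⟩ := KFacts.CoTwo.Main.allInner_iso e α
  exact ⟨g, fun x => by rw [hg]; rfl⟩

/-- **Row `Co2`.** -/
theorem evenB_co2 {S : Type u} [Group S] (h : Spor.IsoCo2 S) : EvenB S := by
  have hin := inner_co2 h
  obtain ⟨e⟩ := h
  letI := MulAction.compHom H843.IMC.Co2B.Y e.symm.symm.toMonoidHom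
  have h' : R3 S H843.IMC.Co2B.Y H843.IMC.Co2B.R 891 1408 := R3.comp H843.IMC.Co2B.r3 e.symm
  exact evenB_of_R3 hin h' (by decide) par_co2

theorem evenJ_co2 {S : Type u} [Group S] (h : Spor.IsoCo2 S) : EvenJ S :=
  evenJ_of_inner (fun α => ⟨0, by simpa using inner_co2 h α⟩) (evenB_co2 h)

end Cfsg.Agent.H305.EB
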